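import Groth.Agent.Lib.CentMT21.Preimage
import Groth.Agent.Lib.CartanT21.Main
import Mathlib.AlgebraicGeometry.Morphisms.FlatDescent

/-!
# Cartan subgroups over algebraically closed fields and their extensions
-/

set_option autoImplicit false
set_option linter.style.haveILetI false
set_option linter.unusedSectionVars false
set_option backward.isDefEq.respectTransparency.types false

universe u

open CategoryTheory Limits MonoidalCategory CartesianMonoidalCategory MonObj AlgebraicGeometry Opposite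

noncomputable section

namespace Groth.Agent.CartanNhd21

open DiagGL MTRigid29 CartanT21

variable {K : Type u} [Field K]

/-- Being a Cartan subgroup over a field is invariant under isomorphism. -/
theorem cartanOver_iso {G G' C C' : Over (Spec (CommRingCat.of K))} [GrpObj G] [GrpObj G'] [GrpObj C] [GrpObj C']
    {c : C ⟶ G} (h : SGA3x.IsCartanOver K c) (eG : G' ≅ G) [IsMonHom eG.hom] (eC : C' ≅ C) [IsMonHom eC.hom]
    (c' : C' ⟶ G') (hc : c' ≫ eG.hom = eC.hom ≫ c) : SGA3x.IsCartanOver K c' := by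
  obtain ⟨hm, hmono, T, _, i, hT, hC⟩ := h
  haveI := hm
  haveI := hmono
  haveI := hT.1
  haveI : IsMonHom (c' ≫ eG.hom) := by rw [hc]; infer_instance
  haveI : IsMonHom c' := MTExt21.isMonHom_of_comp' eG.hom c' ‹_›
  haveI : Mono (c' ≫ eG.hom) := by rw [hc]; infer_instance
  haveI : Mono c' := mono_of_mono c' eG.hom
  haveI := isMonHom_refl T
  haveI : IsMonHom (Iso.refl T).symm.hom := inferInstanceAs (IsMonHom (𝟙 T))
  have hi : (i ≫ eG.inv) ≫ eG.hom = (Iso.refl T).hom ≫ i := by simp
  exact ⟨inferInstance, inferInstance, T, inferInstance, i ≫ eG.inv,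
    MTDesc21.isMaximalTorus_transfer hT (Iso.refl T) eG _ hi hT.2.2.1,
    isCentralizerOf_iso hC eG eC (Iso.refl T) _ c' hi hc⟩

/-- Cartan subgroups over a field stay Cartan subgroups after a field extension. -/
theorem cartanOver_bc {G C : Over (Spec (CommRingCat.of K))} [GrpObj G] [GrpObj C] [LocallyOfFiniteType G.hom]
    {c : C ⟶ G} (h : SGA3x.IsCartanOver K c) {L : Type u} [Field L]
    (φ : Spec (CommRingCat.of L) ⟶ Spec (CommRingCat.of K)) : SGA3x.IsCartanOver L ((Over.pullback φ).map c) := by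
  obtain ⟨hm, hmono, T, _, i, hT, hC⟩ := h
  haveI := hm
  haveI := hmono
  exact ⟨isMonHom_map c φ, Functor.map_mono _ _, Red.bc φ T, inferInstance, _, MTExt21.isMaximalTorus_bc hT φ,
    CartanRel21.isCentralizerOf_bc hC φ⟩

/-- A Cartan subgroup over a field in the relative sense. -/
theorem isCartan_of_cartanOver {G C : Over (Spec (CommRingCat.of K))} [GrpObj G] [GrpObj C]
    [LocallyOfFiniteType G.hom] {c : C ⟶ G} (hs : Smooth C.hom) (h : SGA3x.IsCartanOver K c) : SGA3x.IsCartan c :=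
  ⟨h.1, h.2.1, hs, fun t => cartanOver_bc h (Red.geomPt t)⟩

variable [IsAlgClosed K] {G C : Over (Spec (CommRingCat.of K))} [GrpObj G] [GrpObj C]

/-- A maximal torus has a conjugate inside a Cartan subgroup. -/
theorem exists_conj_into [Smooth G.hom] [QuasiCompact G.hom] {c : C ⟶ G} (hc : SGA3x.IsCartanOver K c)
    {T : Over (Spec (CommRingCat.of K))} [GrpObj T] {i : T ⟶ G} (hT : Red.IsMaximalTorus i) :
    ∃ (g : 𝟙_ (Over (Spec (CommRingCat.of K))) ⟶ G) (v : T ⟶ C), v ≫ c = i ≫ (conjIso g).hom := by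
  obtain ⟨hm, hmono, T₀, _, i₀, hT₀, hC₀⟩ := hc
  haveI := hm
  haveI := hT.1
  haveI := hT₀.1
  obtain ⟨g₀, φ, hφ⟩ := MTConj21.exists_conj_maxTorus_disc (TorPts21.isMaxTorus_of_isMaximalTorus hT)
    (TorPts21.isMaxTorus_of_isMaximalTorus hT₀)
  obtain ⟨y, hy⟩ := (hC₀.2.2 T₀ i₀).2 fun X x a => by
    rw [← MonObj.mul_comp, ← MonObj.mul_comp, commute_of_isMultTypeFT (TorPts21.isMultTypeFT_of_isTorus hT₀.2.2.1)]
  exact ⟨g₀, φ.hom ≫ y, by rw [comp_conjIso, Category.assoc, hy]; exact hφ.symm⟩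

set_option maxHeartbeats 2000000 in
/-- Being a Cartan subgroup descends along an extension of algebraically closed fields. -/
theorem cartanOver_of_bc [Smooth G.hom] [QuasiCompact G.hom] [ConnectedSpace G.left] [Smooth C.hom] (c : C ⟶ G)
    [IsMonHom c] [IsClosedImmersion c.left] {L : Type u} [Field L] [IsAlgClosed L]
    (φ : Spec (CommRingCat.of L) ⟶ Spec (CommRingCat.of K))
    (h : SGA3x.IsCartanOver L ((Over.pullback φ).map c)) : SGA3x.IsCartanOver K c := by
  haveI : IsSeparated G.hom := AbRigid.isSeparated_of_grpObj G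
  haveI : Mono c := Over.mono_of_mono_left c
  haveI : QuasiCompact C.hom := by rw [← Over.w c]; infer_instance
  haveI : IsSeparated C.hom := by rw [← Over.w c]; infer_instance
  haveI : Mono η[G] := SplitMono.mono ⟨toUnit G, toUnit_unique _ _⟩
  obtain ⟨T, _, i, -, hT, -⟩ := AttrBorel21.exists_maxTorus_ge_gen (G := G) Semiab15.isTorus_unit η[G]
  replace hT := AttrBorel21.isMaximalTorus_of_isMaxTorus hT
  haveI := hT.1
  haveI := hT.2.1
  obtain ⟨P, p, hp, hPs, hrep⟩ := exists_transporter_smooth hT.2.2.1 i c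
  haveI : Smooth (Red.bc φ G).hom := inferInstanceAs (Smooth (pullback.snd G.hom φ))
  haveI : QuasiCompact (Red.bc φ G).hom := inferInstanceAs (QuasiCompact (pullback.snd G.hom φ))
  haveI : IsSeparated (Red.bc φ G).hom := inferInstanceAs (IsSeparated (pullback.snd G.hom φ))
  haveI := isMonHom_map c φ
  obtain ⟨g, v, hv⟩ := exists_conj_into h (MTExt21.isMaximalTorus_bc hT φ)
  haveI : Nonempty P.left := by
    obtain ⟨z, -⟩ := (hrep (Over.mk φ) (MTRigid29.secOf φ g)).2 fun X' x a => by
      obtain ⟨Y, e, y', hy', hg⟩ := MTRigid29.exists_bc_point (G := G) φ x a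
      refine ⟨e.hom ≫ fl φ C (y' ≫ v), ?_⟩
      have h0 : (toUnit Y ≫ g) * (y' ≫ (Over.pullback φ).map i) * (toUnit Y ≫ g)⁻¹ =
          (y' ≫ v) ≫ (Over.pullback φ).map c := by
        rw [Category.assoc, hv, ← Category.assoc, comp_conjIso]
      have h1 := congrArg (fun z => e.hom ≫ fl φ G z) h0
      simp only [fl_mul, fl_comp_map, MTRigid29.fl_inv φ G, MonObj.comp_mul, GrpObj.comp_inv, hg] at h1
      rw [← Category.assoc e.hom _ i, hy'] at h1
      rw [h1, Category.assoc]
    exact ⟨z.left (IsLocalRing.closedPoint L)⟩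
  haveI : JacobsonSpace ↥P.left := LocallyOfFiniteType.jacobsonSpace P.hom
  obtain ⟨w, -, hw⟩ := nonempty_inter_closedPoints (Z := (Set.univ : Set ↥P.left))
    Set.univ_nonempty isClosed_univ.isLocallyClosed
  let x₀ : 𝟙_ (Over (Spec (CommRingCat.of K))) ⟶ P :=
    Over.homMk (pointOfClosedPoint P.hom w hw) (pointOfClosedPoint_comp P.hom w hw)
  obtain ⟨t, ht⟩ := (hrep _ (x₀ ≫ p)).1 ⟨x₀, rfl⟩ T (toUnit T) (𝟙 T)
  rw [Category.id_comp] at ht
  have ht' : t ≫ c = i ≫ (conjIso (x₀ ≫ p)).hom := by rw [← ht, comp_conjIso]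
  have hT' : Red.IsMaximalTorus (t ≫ c) := by rw [ht']; exact isMaximalTorus_conj hT _
  obtain ⟨C₃, _, c₃, hC₃, hc₃, -, -⟩ := CartanRel21.exists_centralizer_isCartan hT'
  haveI := hC₃.1
  haveI := hC₃.2.1
  have hcart : SGA3x.IsCartan ((Over.pullback φ).map c) :=
    isCartan_of_cartanOver (inferInstanceAs (Smooth (pullback.snd C.hom φ))) h
  have hCL : Red.IsCentralizerOf ((Over.pullback φ).map (t ≫ c)) ((Over.pullback φ).map c) :=
    (central_and_centralizer hcart (MTExt21.isMaximalTorus_bc hT' φ) ((Over.pullback φ).map t)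
      (Functor.map_comp _ _ _).symm).2
  haveI : Flat φ := by
    obtain ⟨ψ, rfl⟩ := Spec.map_surjective φ
    exact (HasRingHomProperty.Spec_iff (P := @Flat)).2 (RingHom.Flat.of_isField (Field.toIsField _) _)
  haveI : Surjective φ := ⟨fun q => ⟨IsLocalRing.closedPoint _, Subsingleton.elim _ _⟩⟩
  obtain ⟨l, hl⟩ := (hC₃.2.2 C c).2 fun X x a => by
    let q₁ : C ⊗ T ⟶ G := (fst C T ≫ c) * (snd C T ≫ t ≫ c)
    let q₂ : C ⊗ T ⟶ G := (snd C T ≫ t ≫ c) * (fst C T ≫ c)
    have hF : (Over.pullback φ).map q₁ = (Over.pullback φ).map q₂ := by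
      simp only [q₁, q₂, Functor.map_mul]
      have e := (hCL.2.2 _ ((Over.pullback φ).map (fst C T ≫ c))).1
        ⟨(Over.pullback φ).map (fst C T), (Functor.map_comp _ _ _).symm⟩ _ (𝟙 _) ((Over.pullback φ).map (snd C T))
      rwa [Category.id_comp, ← Functor.map_comp] at e
    have hq : q₁ = q₂ := by
      refine Over.OverMorphism.ext ?_
      haveI : Surjective (pullback.fst (C ⊗ T).hom φ) := inferInstance
      haveI : Flat (pullback.fst (C ⊗ T).hom φ) := inferInstance
      haveI : Epi (pullback.fst (C ⊗ T).hom φ) := Flat.epi_of_flat_of_surjective _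
      rw [← cancel_epi (pullback.fst (C ⊗ T).hom φ), (isPullback_map_left φ q₁).w, (isPullback_map_left φ q₂).w, hF]
    have h2 := congrArg (fun z => lift x a ≫ z) hq
    simpa only [q₁, q₂, MonObj.comp_mul, lift_fst_assoc, lift_snd_assoc] using h2
  obtain ⟨y, hy⟩ := (hCL.2.2 _ ((Over.pullback φ).map c₃)).2
    ((CartanRel21.isCentralizerOf_bc hC₃ φ).2.2 _ _ |>.1 ⟨𝟙 _, Category.id_comp _⟩)
  haveI : Mono ((Over.pullback φ).map c₃) := Functor.map_mono _ _
  haveI : Mono ((Over.pullback φ).map c) := Functor.map_mono _ _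
  haveI : IsIso ((Over.pullback φ).map l) := by
    refine ⟨y, ?_, ?_⟩
    · rw [← cancel_mono ((Over.pullback φ).map c), Category.assoc, hy, ← Functor.map_comp, hl, Category.id_comp]
    · rw [← cancel_mono ((Over.pullback φ).map c₃), Category.assoc, ← Functor.map_comp, hl, hy, Category.id_comp]
  haveI : IsIso l := by
    haveI : IsIso ((Over.pullback φ).map l).left :=
      inferInstanceAs (IsIso ((Over.forget _).map ((Over.pullback φ).map l)))
    have h1 : MorphismProperty.isomorphisms Scheme.{u} l.left :=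
      MorphismProperty.of_isPullback_of_descendsAlong (Q := @Surjective ⊓ @Flat ⊓ @QuasiCompact)
        (isPullback_map_left φ l).flip
        (⟨⟨inferInstanceAs (Surjective (pullback.fst C₃.hom φ)), inferInstanceAs (Flat (pullback.fst C₃.hom φ))⟩,
          inferInstanceAs (QuasiCompact (pullback.fst C₃.hom φ))⟩)
        (MorphismProperty.isomorphisms.infer_property _)
    haveI : IsIso l.left := h1
    haveI : IsIso ((Over.forget _).map l) := inferInstanceAs (IsIso l.left)
    exact isIso_of_reflects_iso l (Over.forget _)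
  refine ⟨inferInstance, inferInstance, T, inferInstance, t ≫ c, hT', inferInstance, inferInstance, fun X g => ?_⟩
  refine Iff.trans ⟨?_, ?_⟩ (hC₃.2.2 X g)
  · rintro ⟨z, rfl⟩
    exact ⟨z ≫ l, by rw [Category.assoc, hl]⟩
  · rintro ⟨z, rfl⟩
    exact ⟨z ≫ inv l, by rw [← hl]; simp⟩

end Groth.Agent.CartanNhd21
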