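import Groth.Agent.Lib.CartanNhd21.Field
import Groth.Agent.Lib.FlatH4.FlatLocusScheme
import Groth.Agent.Lib.FlatH4.FibreCritScheme
import Groth.Agent.Lib.PerfProd19.Basic

/-!
# The locus where a closed subgroup fills the fibre
-/

set_option autoImplicit false
set_option linter.style.haveILetI false
set_option linter.unusedSectionVars false
set_option backward.isDefEq.respectTransparency.types false

universe u

open CategoryTheory Limits MonoidalCategory CartesianMonoidalCategory MonObj AlgebraicGeometry Opposite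

noncomputable section

namespace Groth.Agent.CartanNhd21

open DiagGL MTRigid29

theorem flat_fibre_of_flat {X Y B : Scheme.{u}} (f : X ⟶ Y) (g : Y ⟶ B) (h : X ⟶ B) (e : f ≫ g = h) {K : Type u}
    [Field K] (a : Spec (CommRingCat.of K) ⟶ B) (m : pullback h a ⟶ pullback g a)
    (hm₁ : m ≫ pullback.fst g a = pullback.fst h a ≫ f) (hm₂ : m ≫ pullback.snd g a = pullback.snd h a)
    (z : ↥(pullback h a)) (hz : (f.stalkMap (pullback.fst h a z)).hom.Flat) : (m.stalkMap z).hom.Flat := by
  subst e
  have : m = FlatH4.fibreMapAt' f g a := by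
    apply pullback.hom_ext <;> simp [FlatH4.fibreMapAt', hm₁, hm₂, pullback.lift_fst, pullback.lift_snd, pullback.map]
  subst this
  exact FlatH4.flat_fibreMapAt'_of_flat f g a z hz

theorem flat_of_flat_fibre {X Y B : Scheme.{u}} (f : X ⟶ Y) (g : Y ⟶ B) (h : X ⟶ B) (e : f ≫ g = h) {K : Type u}
    [Field K] [Flat h] [LocallyOfFinitePresentation h] [LocallyOfFiniteType g] (a : Spec (CommRingCat.of K) ⟶ B)
    (m : pullback h a ⟶ pullback g a) (hm₁ : m ≫ pullback.fst g a = pullback.fst h a ≫ f)
    (hm₂ : m ≫ pullback.snd g a = pullback.snd h a) (z : ↥(pullback h a)) (hz : (m.stalkMap z).hom.Flat) :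
    (f.stalkMap (pullback.fst h a z)).hom.Flat := by
  subst e
  have : m = FlatH4.fibreMapAt' f g a := by
    apply pullback.hom_ext <;> simp [FlatH4.fibreMapAt', hm₁, hm₂, pullback.lift_fst, pullback.lift_snd, pullback.map]
  subst this
  exact FlatH4.flat_of_flat_fibreMapAt' f g a z (Flat.stalkMap (f ≫ g) _) hz

variable {B : Scheme.{u}} {Z C : Over B} [GrpObj Z]

/-- The points of the base over which the inclusion is flat at the identity. -/
def unitFlatLocus (z : Z ⟶ C) : Set B := {b | (z.left.stalkMap ((η[Z]).left b)).hom.Flat}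

theorem isOpen_unitFlatLocus (z : Z ⟶ C) [LocallyOfFinitePresentation z.left] : IsOpen (unitFlatLocus z) :=
  (FlatH4.isOpen_flatLocus z.left).preimage (η[Z]).left.continuous

theorem exists_geom_unit (b : B) :
    ∃ z : ↥(pullback Z.hom (Red.geomPt b)), pullback.fst Z.hom (Red.geomPt b) z = (η[Z]).left b := by
  obtain ⟨z, hz, -⟩ := Scheme.Pullback.exists_preimage_pullback (f := Z.hom) (g := Red.geomPt b) ((η[Z]).left b)
    (IsLocalRing.closedPoint _) (by
      rw [CentMT21.geomPt_apply, ← Scheme.Hom.comp_apply, Over.w η[Z]]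
      rfl)
  exact ⟨z, hz⟩

theorem map_left_fst (z : Z ⟶ C) {B' : Scheme.{u}} (g : B' ⟶ B) :
    ((Over.pullback g).map z).left ≫ pullback.fst C.hom g = pullback.fst Z.hom g ≫ z.left :=
  ((isPullback_map_left g z).w).symm

/-- An isomorphism on the geometric fibre puts the point into the locus. -/
theorem mem_unitFlatLocus (z : Z ⟶ C) [Flat Z.hom] [LocallyOfFinitePresentation Z.hom] [LocallyOfFiniteType C.hom]
    {b : B} (h : IsIso ((Over.pullback (Red.geomPt b)).map z)) : b ∈ unitFlatLocus z := by
  obtain ⟨x, hx⟩ := exists_geom_unit (Z := Z) b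
  show (z.left.stalkMap ((η[Z]).left b)).hom.Flat
  refine FlatH4.flat_stalkMap_of_eq z.left hx ?_
  let m : pullback Z.hom (Red.geomPt b) ⟶ pullback C.hom (Red.geomPt b) := ((Over.pullback (Red.geomPt b)).map z).left
  haveI : IsIso m := inferInstanceAs (IsIso ((Over.forget _).map ((Over.pullback (Red.geomPt b)).map z)))
  exact flat_of_flat_fibre z.left C.hom Z.hom (Over.w z) (Red.geomPt b) m (map_left_fst z _)
    (Over.w ((Over.pullback (Red.geomPt b)).map z)) x (Flat.stalkMap m x)

/-- In the locus the inclusion fills the geometric fibre. -/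
theorem isIso_of_mem_unitFlatLocus [GrpObj C] (z : Z ⟶ C) [IsClosedImmersion z.left] [LocallyOfFinitePresentation z.left]
    [Flat Z.hom] [LocallyOfFinitePresentation Z.hom] [Smooth C.hom] {b : B}
    (hC : ConnectedSpace ↥(Red.geomFibre b C).left) (h : b ∈ unitFlatLocus z) :
    IsIso ((Over.pullback (Red.geomPt b)).map z) := by
  let g := Red.geomPt b
  let zb := (Over.pullback g).map z
  haveI := hC
  haveI : Smooth (Red.bc g C).hom := inferInstanceAs (Smooth (pullback.snd C.hom g))
  haveI : IrreducibleSpace (Red.bc g C).left := AbRigid.irreducibleSpace_of_isAlgClosed (Red.bc g C)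
  haveI : IsClosedImmersion zb.left := MorphismProperty.of_isPullback (isPullback_map_left g z) ‹IsClosedImmersion z.left›
  haveI : LocallyOfFinitePresentation zb.left :=
    MorphismProperty.of_isPullback (isPullback_map_left g z) ‹LocallyOfFinitePresentation z.left›
  obtain ⟨x, hx⟩ := exists_geom_unit (Z := Z) b
  let m : pullback Z.hom g ⟶ pullback C.hom g := zb.left
  have hmx : (zb.left.stalkMap x).hom.Flat :=
    flat_fibre_of_flat z.left C.hom Z.hom (Over.w z) g m (map_left_fst z _) (Over.w zb) x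
      (FlatH4.flat_stalkMap_of_eq z.left hx.symm h)
  let U : (Red.bc g Z).left.Opens := ⟨_, FlatH4.isOpen_flatLocus zb.left⟩
  haveI : Flat (U.ι ≫ zb.left) := Flat.of_stalkMap _ fun w => by
    rw [FlatH4.flat_stalkMap_comp_left_iff]
    exact w.2
  haveI : IsOpenImmersion (U.ι ≫ zb.left) := IsOpenImmersion.of_flat_of_mono _
  haveI : Surjective zb.left := by
    have h1 : closure (Set.range (U.ι ≫ zb.left)) = Set.univ :=
      ((U.ι ≫ zb.left).isOpenEmbedding.isOpen_range.dense ⟨_, ⟨⟨x, hmx⟩, rfl⟩⟩).closure_eq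
    refine ⟨fun y => ?_⟩
    have h2 : closure (Set.range (U.ι ≫ zb.left)) ⊆ Set.range zb.left :=
      closure_minimal (by rintro _ ⟨w, rfl⟩; exact ⟨U.ι w, (Scheme.Hom.comp_apply _ _ _).symm⟩)
        zb.left.isClosedEmbedding.isClosed_range
    exact h2 (h1.ge (Set.mem_univ y))
  haveI : IsReduced (Red.bc g C).left := AbRigid.isReduced_of_smooth_over_field (Red.bc g C).hom
  obtain ⟨s, hs⟩ := PerfProd19.exists_lift_of_surjective zb (𝟙 _)
  haveI : Mono zb := Over.mono_of_mono_left zb
  haveI : IsSplitEpi zb := IsSplitEpi.mk' ⟨s, hs⟩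
  exact isIso_of_mono_of_isSplitEpi zb

end Groth.Agent.CartanNhd21
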