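import Groth.Agent.Lib.CartanNhd21.Locus

/-!
# Being a Cartan subgroup is an open condition
-/

set_option autoImplicit false
set_option linter.style.haveILetI false
set_option linter.unusedSectionVars false
set_option backward.isDefEq.respectTransparency.types false

universe u

open CategoryTheory Limits MonoidalCategory CartesianMonoidalCategory MonObj AlgebraicGeometry Opposite

noncomputable section

namespace Groth.Agent.CartanNhd21

open DiagGL MTRigid29 CartanT21

variable {S : Scheme.{u}} {G C : Over S} [GrpObj G] [GrpObj C]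

/-- A set is open when its preimage under an fpqc covering map is. -/
theorem isOpen_of_preimage_fpqc {S' : Scheme.{u}} (f : S' ⟶ S) [Flat f]
    (hcov : ∀ V : S.Opens, IsAffineOpen V → ∃ W : S'.Opens, IsCompact (W : Set S') ∧ f.base '' (W : Set S') = (V : Set S))
    (V : Set S) (hV : IsOpen (f.base ⁻¹' V)) : IsOpen V := by
  refine isOpen_iff_forall_mem_open.2 fun s hs => ?_
  obtain ⟨O, hO, hsO, -⟩ := exists_isAffineOpen_mem_and_subset (x := s) (U := ⊤) trivial
  obtain ⟨W, hW, hWO⟩ := hcov O hO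
  have hle : W ≤ f ⁻¹ᵁ O := fun w hw => hWO.le ⟨w, hw, rfl⟩
  let g : (W : Scheme.{u}) ⟶ O := f.resLE O W hle
  have hg : g ≫ O.ι = W.ι ≫ f := Scheme.Hom.resLE_comp_ι _ _
  haveI : IsAffine (O : Scheme.{u}) := hO
  haveI : CompactSpace ↥(W : Scheme.{u}) := isCompact_iff_compactSpace.1 hW
  haveI : QuasiCompact g := quasiCompact_of_compactSpace g
  haveI : Flat g := by
    haveI : Flat (g ≫ O.ι) := by rw [hg]; infer_instance
    exact Flat.of_stalkMap g fun w => by
      have h := Flat.stalkMap (g ≫ O.ι) w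
      rwa [FlatH4.flat_stalkMap_comp_right_iff] at h
  haveI : Surjective g := ⟨fun y => by
    obtain ⟨w, hw, hwy⟩ := hWO.ge y.2
    refine ⟨⟨w, hw⟩, O.ι.isOpenEmbedding.injective ?_⟩
    rw [← Scheme.Hom.comp_apply, hg, Scheme.Hom.comp_apply]
    exact hwy⟩
  refine ⟨V ∩ O, Set.inter_subset_left, ?_, hs, hsO⟩
  have h1 : IsOpen (O.ι ⁻¹' V) := by
    rw [← (Flat.isQuotientMap_of_surjective g).isOpen_preimage]
    have h2 : g ⁻¹' (O.ι ⁻¹' V) = W.ι ⁻¹' (f.base ⁻¹' V) := by
      ext w
      show O.ι (g w) ∈ V ↔ f (W.ι w) ∈ V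
      rw [← Scheme.Hom.comp_apply, hg, Scheme.Hom.comp_apply]
    rw [h2]
    exact hV.preimage W.ι.continuous
  have h3 := O.ι.isOpenEmbedding.isOpenMap _ h1
  rwa [Set.image_preimage_eq_inter_range, Scheme.Opens.range_ι] at h3

/-- The geometric point `σ` lies in a fibre which is a Cartan subgroup. -/
def Cart (c : C ⟶ G) {K : Type u} [Field K] (σ : Spec (CommRingCat.of K) ⟶ S) : Prop :=
  SGA3x.IsCartanOver K ((Over.pullback σ).map c)

theorem cart_comp_iff (c : C ⟶ G) [IsMonHom c] {S' : Scheme.{u}} (f : S' ⟶ S) {K : Type u} [Field K]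
    (k : Spec (CommRingCat.of K) ⟶ S') {σ : Spec (CommRingCat.of K) ⟶ S} (he : k ≫ f = σ) :
    Cart ((Over.pullback f).map c) k ↔ Cart c σ := by
  let BG := SpreadSub19.bcComp f k he G
  let BC := SpreadSub19.bcComp f k he C
  haveI : IsMonHom BG.hom := SpreadSub19.bcComp_isMonHom f k he G
  haveI : IsMonHom BC.hom := SpreadSub19.bcComp_isMonHom f k he C
  haveI : IsMonHom BG.symm.hom := inferInstanceAs (IsMonHom BG.inv)
  haveI : IsMonHom BC.symm.hom := inferInstanceAs (IsMonHom BC.inv)
  refine ⟨fun h => cartanOver_iso h BG.symm BC.symm _ ?_, fun h => cartanOver_iso h BG BC _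
    (SpreadSub19.bcComp_natural f k he c)⟩
  rw [← cancel_mono BG.hom, Category.assoc, Category.assoc, SpreadSub19.bcComp_natural f k he c]
  simp [BG, BC]

variable [Smooth G.hom] [QuasiCompact G.hom] [Smooth C.hom]

/-- The condition only depends on the image point. -/
theorem cart_iff (hconn : ∀ s : S, _root_.IsConnected (G.hom.base ⁻¹' {s})) (c : C ⟶ G) [IsMonHom c]
    [IsClosedImmersion c.left] {K : Type u} [Field K] [IsAlgClosed K] (σ : Spec (CommRingCat.of K) ⟶ S) (t : S)
    (ht : σ (IsLocalRing.closedPoint K) = t) : Cart c σ ↔ Cart c (Red.geomPt t) := by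
  obtain ⟨s, a, hs, hσ⟩ := MTExt21.exists_factor_geomPt σ
  obtain rfl : s = t := hs.trans ht
  let φ := Spec.map (CommRingCat.ofHom a)
  let g := Red.geomPt s
  rw [← cart_comp_iff c g φ hσ.symm]
  haveI : Smooth (Red.bc g G).hom := inferInstanceAs (Smooth (pullback.snd G.hom g))
  haveI : QuasiCompact (Red.bc g G).hom := inferInstanceAs (QuasiCompact (pullback.snd G.hom g))
  haveI : Smooth (Red.bc g C).hom := inferInstanceAs (Smooth (pullback.snd C.hom g))
  haveI : ConnectedSpace (Red.bc g G).left := CentMT21.connectedSpace_geomFibre G hconn s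
  haveI : IsClosedImmersion ((Over.pullback g).map c).left :=
    MorphismProperty.of_isPullback (isPullback_map_left g c) ‹IsClosedImmersion c.left›
  haveI := isMonHom_map c g
  exact ⟨fun h => cartanOver_of_bc _ φ h, fun h => cartanOver_bc h φ⟩

variable [IsSeparated G.hom]

theorem isConnected_fibre_bc {Y : Over S} [GrpObj Y] (hY : ∀ s : S, _root_.IsConnected (Y.hom.base ⁻¹' {s}))
    {B : Scheme.{u}} (π : B ⟶ S) (b : B) : _root_.IsConnected ((Red.bc π Y).hom.base ⁻¹' {b}) := by
  haveI : ∀ x : S, ConnectedSpace ↥(Y.hom.fiber x) := fun x => by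
    haveI : ConnectedSpace ↥(Y.hom.base ⁻¹' {x}) := isConnected_iff_connectedSpace.1 (hY x)
    exact (Y.hom.fiberHomeo x).symm.surjective.connectedSpace (Y.hom.fiberHomeo x).symm.continuous
  haveI : GeometricallyConnected Y.hom := AbSchRigid22.geometricallyConnected_of_grpObj Y this
  haveI : GeometricallyConnected (pullback.snd Y.hom π) := inferInstance
  exact Scheme.Hom.isConnected_preimage_singleton (pullback.snd Y.hom π) b

set_option maxHeartbeats 2000000 in
/-- Being a Cartan subgroup is an open condition on the base. -/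
theorem isOpen_cart (hconn : ∀ s : S, _root_.IsConnected (G.hom.base ⁻¹' {s}))
    (hG : SGA3x.HasMaxTorusFpqcLocally G) (c : C ⟶ G) [IsMonHom c] [IsClosedImmersion c.left]
    (hCconn : ∀ s : S, _root_.IsConnected (C.hom.base ⁻¹' {s})) : IsOpen {t : S | Cart c (Red.geomPt t)} := by
  obtain ⟨S', f, hf, hfs, hfc, T₀, _, i₀, hT₀⟩ := hG
  haveI := hf
  haveI := hfs
  refine isOpen_of_preimage_fpqc f hfc _ ?_
  haveI : Smooth (Red.bc f G).hom := inferInstanceAs (Smooth (pullback.snd G.hom f))
  haveI : IsSeparated (Red.bc f G).hom := inferInstanceAs (IsSeparated (pullback.snd G.hom f))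
  haveI : QuasiCompact (Red.bc f G).hom := inferInstanceAs (QuasiCompact (pullback.snd G.hom f))
  haveI : Smooth (Red.bc f C).hom := inferInstanceAs (Smooth (pullback.snd C.hom f))
  let c' := (Over.pullback f).map c
  haveI : IsMonHom c' := isMonHom_map c f
  haveI : IsClosedImmersion c'.left := MorphismProperty.of_isPullback (isPullback_map_left f c) ‹IsClosedImmersion c.left›
  haveI : Mono c' := Over.mono_of_mono_left c'
  haveI : QuasiCompact (Red.bc f C).hom := by rw [← Over.w c']; infer_instance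
  haveI := hT₀.1
  haveI := hT₀.2.1
  obtain ⟨P, p, hp, hPs, hrep⟩ := exists_transporter_smooth hT₀.2.2.1 i₀ c'
  let h := P.hom
  haveI : Smooth h := hPs
  haveI : LocallyOfFinitePresentation h := inferInstance
  let π : P.left ⟶ S := h ≫ f
  let p' : Over.mk h ⟶ Red.bc f G := Over.homMk p.left (Over.w p)
  obtain ⟨g₁, hg₁⟩ := exists_section_bc (G := Red.bc f G) h p'
  have hP' : ∃ x : Over.mk h ⟶ P, x ≫ p = p' :=
    ⟨Over.homMk (𝟙 _) (Category.id_comp _), Over.OverMorphism.ext (Category.id_comp _)⟩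
  obtain ⟨x₁, hx₁⟩ := hg₁ (Red.bc h T₀)
  obtain ⟨b, hb⟩ := (hrep _ p').1 hP' _ x₁ (fl h T₀ (𝟙 _))
  obtain ⟨t₁, rfl⟩ := fl_surjective h (Red.bc f C) b
  have ht₁ : t₁ ≫ (Over.pullback h).map c' = (Over.pullback h).map i₀ ≫ (conjIso g₁).hom := by
    refine fl_injective h (Red.bc f G) ?_
    rw [comp_conjIso, fl_mul, fl_mul, MTRigid29.fl_inv h (Red.bc f G), hx₁]
    have e : fl h (Red.bc f G) ((Over.pullback h).map i₀) = fl h T₀ (𝟙 _) ≫ i₀ := by
      rw [← fl_comp_map, Category.id_comp]
    rw [e, hb, fl_comp_map]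
  let B := SpreadSub19.bcComp f h (c := π) rfl C
  let t : Red.bc h T₀ ⟶ Red.bc π C := t₁ ≫ B.hom
  let cB := (Over.pullback π).map c
  have ht : Red.IsMaximalTorus (t ≫ cB) := by
    have h₀ := isMaximalTorus_conj (MTExt21.isMaximalTorus_bc hT₀ h) g₁
    haveI := SpreadSub19.bcComp_isMonHom f h (c := π) rfl G
    haveI := isMonHom_refl (Red.bc h T₀)
    haveI : IsMonHom (SpreadSub19.bcComp f h (c := π) rfl G).symm.hom :=
      inferInstanceAs (IsMonHom (SpreadSub19.bcComp f h (c := π) rfl G).inv)
    refine MTDesc21.isMaximalTorus_transfer h₀ (Iso.refl _) (SpreadSub19.bcComp f h (c := π) rfl G).symm _ ?_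
      (MTExt21.isTorus_bc hT₀.2.2.1 h)
    rw [← cancel_mono (SpreadSub19.bcComp f h (c := π) rfl G).hom]
    simp only [t, B, cB, Category.assoc, Iso.symm_hom, Iso.inv_hom_id, Category.comp_id, Iso.refl_hom,
      Category.id_comp]
    rw [← SpreadSub19.bcComp_natural f h rfl c, ← Category.assoc, ht₁, Category.assoc]
  haveI : Smooth (Red.bc π G).hom := inferInstanceAs (Smooth (pullback.snd G.hom π))
  haveI : IsSeparated (Red.bc π G).hom := inferInstanceAs (IsSeparated (pullback.snd G.hom π))
  haveI : QuasiCompact (Red.bc π G).hom := inferInstanceAs (QuasiCompact (pullback.snd G.hom π))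
  haveI : Smooth (Red.bc π C).hom := inferInstanceAs (Smooth (pullback.snd C.hom π))
  haveI : IsMonHom cB := isMonHom_map c π
  haveI : IsClosedImmersion cB.left := MorphismProperty.of_isPullback (isPullback_map_left π c) ‹IsClosedImmersion c.left›
  haveI : Mono cB := Over.mono_of_mono_left cB
  haveI : IsSeparated (Red.bc π C).hom := by rw [← Over.w cB]; infer_instance
  have htC := isMaximalTorus_factor cB t ht
  haveI := htC.1
  obtain ⟨Z, _, z, hZ, hzc, hZs⟩ :=
    TorusCentr19.exists_centralizer' (isMT_of_ft (TorPts21.isMultTypeFT_of_isTorus htC.2.2.1)) ‹Smooth (Red.bc π C).hom› t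
  haveI := hZ.1
  haveI := hZ.2.1
  haveI := hzc
  haveI := hZs
  obtain ⟨C₃, _, c₃, hC₃, hc₃, hcar₃, -⟩ := CartanRel21.exists_centralizer_isCartan ht
  haveI := hC₃.1
  haveI := hC₃.2.1
  haveI := hc₃
  haveI : Smooth C₃.hom := hcar₃.2.2.1
  obtain ⟨w, hw⟩ := (hC₃.2.2 Z (z ≫ cB)).2 fun X x a => by
    have h1 := congrArg (· ≫ cB) ((hZ.2.2 Z z).1 ⟨𝟙 _, Category.id_comp _⟩ X x a)
    simpa only [MonObj.mul_comp, Category.assoc] using h1
  haveI : IsClosedImmersion w.left := by
    haveI : IsClosedImmersion (w.left ≫ c₃.left) := by rw [← Over.comp_left, hw, Over.comp_left]; infer_instance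
    exact IsClosedImmersion.of_comp w.left c₃.left
  haveI : LocallyOfFinitePresentation z.left := by
    haveI : LocallyOfFinitePresentation (z.left ≫ (Red.bc π C).hom) := by rw [Over.w z]; infer_instance
    exact SchBasic.locallyOfFinitePresentation_of_comp z.left (Red.bc π C).hom
  haveI : LocallyOfFinitePresentation w.left := by
    haveI : LocallyOfFinitePresentation (w.left ≫ C₃.hom) := by rw [Over.w w]; infer_instance
    exact SchBasic.locallyOfFinitePresentation_of_comp w.left C₃.hom
  have hGπ := isConnected_fibre_bc hconn π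
  -- the Cartan condition at a point of the transporter
  have key : ∀ b : P.left, Cart c (Red.geomPt (π b)) ↔ b ∈ unitFlatLocus z ∩ unitFlatLocus w := by
    intro b
    let k := Red.geomPt b
    rw [← cart_iff hconn c (k ≫ π) (π b) (by rw [Scheme.Hom.comp_apply, CentMT21.geomPt_apply]),
      ← cart_comp_iff c π k rfl]
    haveI : Smooth (Red.bc k (Red.bc π G)).hom := inferInstanceAs (Smooth (pullback.snd (Red.bc π G).hom k))
    haveI : IsSeparated (Red.bc k (Red.bc π G)).hom := inferInstanceAs (IsSeparated (pullback.snd (Red.bc π G).hom k))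
    haveI := isMonHom_map cB k
    haveI := isMonHom_map c₃ k
    haveI : Mono ((Over.pullback k).map cB) := Functor.map_mono _ _
    haveI : Mono ((Over.pullback k).map c₃) := Functor.map_mono _ _
    haveI : Mono ((Over.pullback k).map z) := Functor.map_mono _ _
    have h3 := CartanRel21.isCentralizerOf_bc hC₃ k
    have hzk := CartanRel21.isCentralizerOf_bc hZ k
    have hwk : (Over.pullback k).map w ≫ (Over.pullback k).map c₃ =
        (Over.pullback k).map z ≫ (Over.pullback k).map cB := by
      rw [← Functor.map_comp, hw, Functor.map_comp]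
    constructor
    · intro h
      have hcart : SGA3x.IsCartan ((Over.pullback k).map cB) :=
        isCartan_of_cartanOver (inferInstanceAs (Smooth (pullback.snd (Red.bc π C).hom k))) h
      obtain ⟨hcen, hCk⟩ := central_and_centralizer hcart (MTExt21.isMaximalTorus_bc ht k) ((Over.pullback k).map t)
        (Functor.map_comp _ _ _).symm
      obtain ⟨y, hy⟩ := (hzk.2.2 _ (𝟙 _)).2 fun X x a => by
        rw [Category.comp_id]; exact hcen X x a
      haveI hzi : IsIso ((Over.pullback k).map z) := by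
        haveI : IsSplitEpi ((Over.pullback k).map z) := IsSplitEpi.mk' ⟨y, hy⟩
        exact isIso_of_mono_of_isSplitEpi _
      refine ⟨mem_unitFlatLocus z hzi, mem_unitFlatLocus w ?_⟩
      obtain ⟨l, hl⟩ := (hCk.2.2 _ ((Over.pullback k).map c₃)).2 ((h3.2.2 _ _).1 ⟨𝟙 _, Category.id_comp _⟩)
      refine ⟨l ≫ inv ((Over.pullback k).map z), ?_, ?_⟩
      · rw [← cancel_mono ((Over.pullback k).map z), ← cancel_mono ((Over.pullback k).map cB)]
        simp only [Category.assoc, IsIso.inv_hom_id_assoc, Category.id_comp]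
        rw [hl, hwk]
      · rw [← cancel_mono ((Over.pullback k).map c₃)]
        simp only [Category.assoc, Category.id_comp]
        rw [hwk, IsIso.inv_hom_id_assoc, hl]
    · rintro ⟨hz', hw'⟩
      haveI := isIso_of_mem_unitFlatLocus z
        (CentMT21.connectedSpace_geomFibre _ (isConnected_fibre_bc hCconn π) b) hz'
      haveI := isIso_of_mem_unitFlatLocus w (CentMT21.connectedSpace_geomFibre _
        (fun s => CentMT21.isConnected_fibre_centralizer hGπ ht.2.2.1 hC₃ s) b) hw'
      refine ⟨inferInstance, inferInstance, _, inferInstance, _, MTExt21.isMaximalTorus_bc ht k,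
        inferInstance, inferInstance, fun X g => Iff.trans ⟨?_, ?_⟩ (h3.2.2 X g)⟩
      · rintro ⟨y, rfl⟩
        refine ⟨y ≫ inv ((Over.pullback k).map z) ≫ (Over.pullback k).map w, ?_⟩
        simp only [Category.assoc]
        rw [hwk, IsIso.inv_hom_id_assoc]
      · rintro ⟨y, rfl⟩
        refine ⟨y ≫ inv ((Over.pullback k).map w) ≫ (Over.pullback k).map z, ?_⟩
        simp only [Category.assoc]
        rw [← hwk, IsIso.inv_hom_id_assoc]
  refine isOpen_iff_forall_mem_open.2 fun s' hs' => ⟨h '' (unitFlatLocus z ∩ unitFlatLocus w), ?_, ?_, ?_⟩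
  · rintro _ ⟨b, hb, rfl⟩
    show Cart c (Red.geomPt (f (h b)))
    rw [← Scheme.Hom.comp_apply]
    exact (key b).2 hb
  · exact h.isOpenMap _ ((isOpen_unitFlatLocus z).inter (isOpen_unitFlatLocus w))
  · let k := Red.geomPt s'
    have hk : Cart c' k := (cart_comp_iff c f k rfl).2
      ((cart_iff hconn c (k ≫ f) (f s') (by rw [Scheme.Hom.comp_apply, CentMT21.geomPt_apply])).2 hs')
    haveI : Smooth (Red.bc k (Red.bc f G)).hom := inferInstanceAs (Smooth (pullback.snd (Red.bc f G).hom k))
    haveI : QuasiCompact (Red.bc k (Red.bc f G)).hom := inferInstanceAs (QuasiCompact (pullback.snd (Red.bc f G).hom k))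
    haveI := isMonHom_map c' k
    obtain ⟨g, v, hv⟩ := exists_conj_into hk (MTExt21.isMaximalTorus_bc hT₀ k)
    obtain ⟨y, -⟩ := (hrep (Over.mk k) (MTRigid29.secOf k g)).2 fun X' x a => by
      obtain ⟨Y, e, y', hy', hg⟩ := MTRigid29.exists_bc_point (G := Red.bc f G) k x a
      refine ⟨e.hom ≫ fl k (Red.bc f C) (y' ≫ v), ?_⟩
      have h0 : (toUnit Y ≫ g) * (y' ≫ (Over.pullback k).map i₀) * (toUnit Y ≫ g)⁻¹ =
          (y' ≫ v) ≫ (Over.pullback k).map c' := by
        rw [Category.assoc, hv, ← Category.assoc, comp_conjIso]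
      have h1 := congrArg (fun z => e.hom ≫ fl k (Red.bc f G) z) h0
      simp only [fl_mul, fl_comp_map, MTRigid29.fl_inv k (Red.bc f G), MonObj.comp_mul, GrpObj.comp_inv, hg] at h1
      rw [← Category.assoc e.hom _ i₀, hy'] at h1
      rw [h1, Category.assoc]
    have hb : h (y.left (IsLocalRing.closedPoint _)) = s' := by
      rw [← Scheme.Hom.comp_apply, Over.w y]
      exact CentMT21.geomPt_apply s'
    refine ⟨y.left (IsLocalRing.closedPoint _), (key _).1 ?_, hb⟩
    rw [show π (y.left (IsLocalRing.closedPoint _)) = f s' by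
      show (h ≫ f) _ = _
      rw [Scheme.Hom.comp_apply, hb]]
    exact hs'

/-- A Cartan subgroup at one point is one nearby. -/
theorem exists_nhd_isCartan (hconn : ∀ s : S, _root_.IsConnected (G.hom.base ⁻¹' {s}))
    (hG : SGA3x.HasMaxTorusFpqcLocally G) (c : C ⟶ G) [IsMonHom c] [IsClosedImmersion c.left]
    (hCconn : ∀ s : S, _root_.IsConnected (C.hom.base ⁻¹' {s})) (s : S)
    (hs : SGA3x.IsCartanOver (AlgebraicClosure (S.residueField s)) ((Over.pullback (Red.geomPt s)).map c)) :
    ∃ U : S.Opens, s ∈ U ∧ SGA3x.IsCartan ((Over.pullback U.ι).map c) := by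
  let U : S.Opens := ⟨_, isOpen_cart hconn hG c hCconn⟩
  haveI : Mono c := Over.mono_of_mono_left c
  refine ⟨U, hs, isMonHom_map c U.ι, Functor.map_mono _ _, inferInstanceAs (Smooth (pullback.snd C.hom U.ι)),
    fun u => ?_⟩
  refine (cart_comp_iff c U.ι (Red.geomPt u) rfl).2 ?_
  refine (cart_iff hconn c _ (U.ι u) (by rw [Scheme.Hom.comp_apply, CentMT21.geomPt_apply])).2 ?_
  exact u.2

end Groth.Agent.CartanNhd21
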